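import Cfsg.Agent.R08.FrameA
import Cfsg.Agent.R08.ModLab
import Cfsg.Agent.H832.FourProd
import Cfsg.Agent.Prune
set_option linter.all false
prune_inst 0x7ffffdfbfff8eddfffff7e7ffeffdffdfdbb7fffeffffdfbffecf9ff0fdfcf0acff5fb8fefeb12fe3ff6fa1492fc7bd3ffffeeffe2ffdc7ffffd5ff45fffffdfedf7bd0c5196bc340ffc6fffe3f07f8e7f3fffffffffffffffffffffffffffbeffbffffffffd
open scoped Cfsg.Agent.FastGrp

-- part: H832/UThree/Coord
section
/-!
# Subgroups `3.U4(3)` of `SU_6(2)`: coordinates (helper832)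

`SL = SL_6(4)`, `SU = SU_6(2) ≤ SL`, `GL = GL_6(4)` acts on `SL` by conjugation (`cg`), `Uni G`: `G` is unitary.

* `exists_linFrame` : `K ≤ SU` with `π : K → PSU_4(3)` onto, kernel of order 3: `K` is conjugate by a unitary matrix
  to a subgroup with `LinFrame`.
-/

set_option autoImplicit false

namespace Cfsg.Agent.H832.UThree

open Cfsg Cfsg.Agent.SporRec.GF4 Cfsg.Agent.R08.ModVec Cfsg.Agent.R08.ModMono Cfsg.Agent.R08.Frame
open Cfsg.Agent.R08.ModOrb Cfsg.Agent.R08.ModIso Cfsg.Agent.R08.ModTau Cfsg.Agent.R08.ModSig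
open Cfsg.Agent.R08.ModTriv Cfsg.Agent.R08.FrameAGroup Cfsg.Agent.R08.FrameAData
open Cfsg.Agent.R08.FrameALin Cfsg.Agent.R08.FrameAForm
open Finset

/-- matrices -/
abbrev Mx : Type := Matrix (Fin 6) (Fin 6) F4

/-- invertible matrices -/
abbrev GLx : Type := Mxˣ

theorem det_mul_inv (G : GLx) (A : SL) : ((G : Mx) * A.1 * (G⁻¹ : GLx)).det = 1 := by
  rw [Matrix.det_mul, Matrix.det_mul, A.2, mul_one, ← Matrix.det_mul, Units.mul_inv, Matrix.det_one]

/-- conjugation by an invertible matrix -/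
def cg (G : GLx) : SL ≃* SL where
  toFun A := ⟨(G : Mx) * A.1 * (G⁻¹ : GLx), det_mul_inv G A⟩
  invFun A := ⟨((G⁻¹ : GLx) : Mx) * A.1 * ((G⁻¹ : GLx)⁻¹ : GLx), det_mul_inv G⁻¹ A⟩
  left_inv A := by
    apply Subtype.ext
    show ((G⁻¹ : GLx) : Mx) * ((G : Mx) * A.1 * (G⁻¹ : GLx)) * ((G⁻¹ : GLx)⁻¹ : GLx) = A.1
    rw [inv_inv, mul_assoc, mul_assoc, Units.inv_mul, mul_one, ← mul_assoc, Units.inv_mul, one_mul]
  right_inv A := by
    apply Subtype.ext
    show (G : Mx) * (((G⁻¹ : GLx) : Mx) * A.1 * ((G⁻¹ : GLx)⁻¹ : GLx)) * (G⁻¹ : GLx) = A.1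
    rw [inv_inv, mul_assoc, mul_assoc, Units.mul_inv, mul_one, ← mul_assoc, Units.mul_inv, one_mul]
  map_mul' A B := by
    apply Subtype.ext
    show (G : Mx) * (A.1 * B.1) * (G⁻¹ : GLx) = (G : Mx) * A.1 * (G⁻¹ : GLx) * ((G : Mx) * B.1 * (G⁻¹ : GLx))
    have h : ((G⁻¹ : GLx) : Mx) * ((G : Mx) * B.1 * (G⁻¹ : GLx)) = B.1 * (G⁻¹ : GLx) := by
      rw [mul_assoc, ← mul_assoc, Units.inv_mul, one_mul]
    rw [mul_assoc ((G : Mx) * A.1), h]
    simp only [mul_assoc]

theorem cg_coe (G : GLx) (A : SL) : (cg G A).1 = (G : Mx) * A.1 * (G⁻¹ : GLx) := rfl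

theorem cg_one (A : SL) : cg 1 A = A := by
  apply Subtype.ext
  rw [cg_coe, inv_one, Units.val_one, one_mul, mul_one]

theorem cg_mul (G G' : GLx) (A : SL) : cg (G * G') A = cg G (cg G' A) := by
  apply Subtype.ext
  rw [cg_coe, cg_coe, cg_coe, mul_inv_rev, Units.val_mul, Units.val_mul]
  simp only [mul_assoc]

/-- the action on vectors -/
def ac (G : GLx) (v : _root_.Cfsg.Agent.R08.ModVec.W) : _root_.Cfsg.Agent.R08.ModVec.W := (G : Mx).mulVec v

theorem ac_add (G : GLx) (u v : _root_.Cfsg.Agent.R08.ModVec.W) : ac G (u + v) = ac G u + ac G v := Matrix.mulVec_add _ _ _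

theorem ac_smul (G : GLx) (a : F4) (v : _root_.Cfsg.Agent.R08.ModVec.W) : ac G (a • v) = a • ac G v := Matrix.mulVec_smul _ _ _

theorem ac_mul (G G' : GLx) (v : _root_.Cfsg.Agent.R08.ModVec.W) : ac (G * G') v = ac G (ac G' v) := by
  unfold ac
  rw [Units.val_mul, Matrix.mulVec_mulVec]

theorem ac_one (v : _root_.Cfsg.Agent.R08.ModVec.W) : ac 1 v = v := by
  unfold ac
  rw [Units.val_one, Matrix.one_mulVec]

theorem ac_inv (G : GLx) (v : _root_.Cfsg.Agent.R08.ModVec.W) : ac G⁻¹ (ac G v) = v := by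
  rw [← ac_mul, inv_mul_cancel, ac_one]

theorem ac_inv' (G : GLx) (v : _root_.Cfsg.Agent.R08.ModVec.W) : ac G (ac G⁻¹ v) = v := by
  rw [← ac_mul, mul_inv_cancel, ac_one]

theorem ac_inj (G : GLx) {u v : _root_.Cfsg.Agent.R08.ModVec.W} (h : ac G u = ac G v) : u = v := by
  rw [← ac_inv G u, h, ac_inv]

theorem cg_smul (G : GLx) (A : SL) (v : _root_.Cfsg.Agent.R08.ModVec.W) : cg G A • ac G v = ac G (A • v) := by
  rw [_root_.Cfsg.Agent.R08.ModOrb.smul_def, _root_.Cfsg.Agent.R08.ModOrb.smul_def]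
  show ((G : Mx) * A.1 * (G⁻¹ : GLx)).mulVec ((G : Mx).mulVec v) = (G : Mx).mulVec _
  rw [Matrix.mulVec_mulVec, Matrix.mulVec_mulVec, mul_assoc, mul_assoc, Units.inv_mul, mul_one]

/-- unitary matrices -/
def Uni (G : GLx) : Prop := ∀ u v, herm (ac G u) (ac G v) = herm u v

theorem Uni.mul {G G' : GLx} (h : Uni G) (h' : Uni G') : Uni (G * G') := fun u v => by
  rw [ac_mul, ac_mul, h, h']

theorem Uni.inv {G : GLx} (h : Uni G) : Uni G⁻¹ := fun u v => by
  rw [← h, ac_inv', ac_inv']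

theorem cg_mem_SU {G : GLx} (h : Uni G) {A : SL} (hA : A ∈ Cfsg.SU 6 F4 2) :
    cg G A ∈ Cfsg.SU 6 F4 2 := by
  have key : ∀ u v : _root_.Cfsg.Agent.R08.ModVec.W, herm (cg G A • u) (cg G A • v) = herm u v := by
    intro u v
    rw [← ac_inv' G u, ← ac_inv' G v, cg_smul, cg_smul, h, h]
    exact hA _ _
  exact key

/-! ### `LinFrame` and conjugation by diagonal matrices -/

/-- diagonal matrices -/
def Dg (D : Fin 6 → F4ˣ) : GLx where
  val := Matrix.diagonal fun i => (D i : F4)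
  inv := Matrix.diagonal fun i => ((D i)⁻¹ : F4ˣ).val
  val_inv := by
    rw [Matrix.diagonal_mul_diagonal]
    have : (fun i => (D i : F4) * ((D i)⁻¹ : F4ˣ).val) = fun _ => 1 :=
      funext fun i => Units.mul_inv _
    rw [this, Matrix.diagonal_one]
  inv_val := by
    rw [Matrix.diagonal_mul_diagonal]
    have : (fun i => ((D i)⁻¹ : F4ˣ).val * (D i : F4)) = fun _ => 1 :=
      funext fun i => Units.inv_mul _
    rw [this, Matrix.diagonal_one]

theorem ac_Dg (D : Fin 6 → F4ˣ) (v : _root_.Cfsg.Agent.R08.ModVec.W) (i : Fin 6) : ac (Dg D) v i = (D i : F4) * v i :=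
  Matrix.mulVec_diagonal _ _ _

theorem uni_Dg (D : Fin 6 → F4ˣ) : Uni (Dg D) := by
  intro u v
  rw [herm_def, herm_def]
  refine Finset.sum_congr rfl fun i _ => ?_
  rw [ac_Dg, ac_Dg, cj_mul]
  have := mul_cj (D i).ne_zero
  calc (D i : F4) * u i * (cj (D i) * cj (v i)) = ((D i : F4) * cj (D i)) * (u i * cj (v i)) := by ring
    _ = _ := by rw [this, one_mul]

theorem Dg_inv (D : Fin 6 → F4ˣ) : (Dg D)⁻¹ = Dg D⁻¹ := by
  apply inv_eq_of_mul_eq_one_right
  apply Units.ext
  show Matrix.diagonal _ * Matrix.diagonal _ = 1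
  rw [Matrix.diagonal_mul_diagonal]
  have : (fun i => (D i : F4) * ((D⁻¹ i : F4ˣ) : F4)) = fun _ => 1 :=
    funext fun i => Units.mul_inv _
  rw [this, Matrix.diagonal_one]

/-- the map of a subgroup -/
def cmap (G : GLx) (H : Subgroup SL) : Subgroup SL := H.map (cg G).toMonoidHom

theorem cmap_mul (G G' : GLx) (H : Subgroup SL) : cmap (G * G') H = cmap G (cmap G' H) := by
  ext A
  constructor
  · rintro ⟨B, hB, rfl⟩
    exact ⟨cg G' B, ⟨B, hB, rfl⟩, (cg_mul G G' B).symm⟩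
  · rintro ⟨_, ⟨B, hB, rfl⟩, rfl⟩
    exact ⟨B, hB, cg_mul G G' B⟩

theorem cmap_one (H : Subgroup SL) : cmap 1 H = H := by
  ext A
  constructor
  · rintro ⟨B, hB, rfl⟩
    show cg 1 B ∈ H
    rwa [cg_one]
  · intro hA
    exact ⟨A, hA, cg_one A⟩

theorem card_cmap (G : GLx) (H : Subgroup SL) : Nat.card ↥(cmap G H) = Nat.card ↥H :=
  (Nat.card_congr (H.equivMapOfInjective (cg G).toMonoidHom (cg G).injective).toEquiv).symm

theorem cmap_le {G : GLx} (h : Uni G) {H : Subgroup SL} (hH : H ≤ Cfsg.SU 6 F4 2) :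
    cmap G H ≤ Cfsg.SU 6 F4 2 := by
  rintro _ ⟨B, hB, rfl⟩
  exact cg_mem_SU h (hH hB)

theorem linFrame_Dg (D : Fin 6 → F4ˣ) {H : Subgroup SL} (hH : LinFrame F4 H) :
    LinFrame F4 (cmap (Dg D) H) where
  le := cmap_le (uni_Dg D) hH.le
  mono s d hs hd := by
    obtain ⟨A, hA, hAv⟩ := hH.mono s (fun i => (D i)⁻¹ * d i * D (s⁻¹ i)) hs (by
      rw [prod_mul_distrib, prod_mul_distrib, hd, mul_one, prod_inv_distrib]
      rw [show ∏ i, D (s⁻¹ i) = ∏ i, D i from Equiv.prod_comp (s⁻¹ : Equiv.Perm (Fin 6)) D,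
        inv_mul_cancel])
    refine ⟨cg (Dg D) A, ⟨A, hA, rfl⟩, fun v i => ?_⟩
    obtain ⟨w, rfl⟩ : ∃ w, ac (Dg D) w = v := ⟨ac (Dg D)⁻¹ v, ac_inv' _ _⟩
    show (cg (Dg D) A • ac (Dg D) w) i = _
    rw [cg_smul, ac_Dg, ac_Dg]
    have h1 : (A • w) i = ((D i)⁻¹ * d i * D (s⁻¹ i) : F4ˣ) * w (s⁻¹ i) := hAv w i
    rw [h1, Units.val_mul, Units.val_mul]
    have h2 : (D i : F4) * ((D i)⁻¹ : F4ˣ) = 1 := Units.mul_inv _
    calc (D i : F4) * (((D i)⁻¹ : F4ˣ) * (d i : F4) * (D (s⁻¹ i) : F4) * w (s⁻¹ i)) =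
        ((D i : F4) * ((D i)⁻¹ : F4ˣ)) * (d i : F4) * ((D (s⁻¹ i) : F4) * w (s⁻¹ i)) := by ring
      _ = _ := by rw [h2, one_mul]
  card := by rw [card_cmap, hH.card]

theorem orb_cmap (G : GLx) {H : Subgroup SL} {u v : _root_.Cfsg.Agent.R08.ModVec.W} (huv : Orb H u v) :
    Orb (cmap G H) (ac G u) (ac G v) := by
  obtain ⟨A, hA, rfl⟩ := huv
  exact ⟨cg G A, ⟨A, hA, rfl⟩, cg_smul G A u⟩

/-- **Normalisation of the orbits.** -/
theorem exists_std {H : Subgroup SL} (hH : LinFrame F4 H) : ∃ D : Fin 6 → F4ˣ, Std (cmap (Dg D) H) := by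
  obtain ⟨c, hc, h2, h4⟩ := iso_orbits hH
  let D : Fin 6 → F4ˣ := ![(Units.mk0 c hc)⁻¹, 1, 1, 1, 1, 1]
  obtain ⟨c', hc', h2', h4'⟩ := iso_orbits (linFrame_Dg D hH)
  have e1 : Orb H u2 (u6 c) := (h2 _).2 (Or.inr ⟨wt_u6 hc, prod_u6 c⟩)
  have e2 := orb_cmap (Dg D) e1
  have e3 : wt (ac (Dg D) u2) = 2 := by
    have : supp (ac (Dg D) u2) = supp u2 := by
      ext i
      rw [mem_supp, mem_supp, ac_Dg]
      constructor
      · intro h1 h2
        exact h1 (by rw [h2, mul_zero])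
      · intro h1
        exact mul_ne_zero (D i).ne_zero h1
    rw [← card_supp, this]
    exact wt_u2
  have e4 : ac (Dg D) (u6 c) = fun _ => 1 := by
    funext i
    rw [ac_Dg]
    have hcc : (((Units.mk0 c hc)⁻¹ : F4ˣ) : F4) * c = 1 := by
      rw [Units.val_inv_eq_inv_val]
      exact inv_mul_cancel₀ hc
    fin_cases i
    · exact hcc
    · exact one_mul _
    · exact one_mul _
    · exact one_mul _
    · exact one_mul _
    · exact one_mul _
  rw [e4] at e2
  have e5 : Orb (cmap (Dg D) H) u2 (fun _ => 1) :=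
    (Orb.of_type (linFrame_Dg D hH) (wt_u2.trans e3.symm)
      (fun h => by rw [wt_u2] at h; omega)).trans e2
  have e6 : c' = 1 := by
    rcases (h2' _).1 e5 with h5 | ⟨-, h5⟩
    · exact absurd h5 (by decide)
    · rw [← h5]; decide
  refine ⟨D, linFrame_Dg D hH, fun v => ?_, fun v => ?_⟩
  · rw [h2', e6]; rfl
  · rw [h4', e6]; rfl

/-! ### Uniqueness of the standard group -/

/-- no subgroup of index two -/
def NoTwo (H : Subgroup SL) : Prop := ∀ N : Subgroup ↥H, N.index ≠ 2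

theorem std_unique {H H' : Subgroup SL} (h : Std H) (h' : Std H') (hn : NoTwo H') : H' = H := by
  have key : ∀ A ∈ H', A ∈ H ∨ ∃ B ∈ H, ∀ v, A • v = B • tau u45 v := by
    intro A hA
    rcases (sig_of_mem h' hA).cases h with ⟨B, hB, hv⟩ | h1
    · left
      rwa [sl_ext hv]
    · exact Or.inr h1
  have hle : H' ≤ H := by
    by_contra hcon
    obtain ⟨A0, hA0, hA0'⟩ := Set.not_subset.1 hcon
    obtain ⟨B0, hB0, hv0⟩ := (key A0 hA0).resolve_left hA0'
    refine hn (H.subgroupOf H') ?_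
    rw [Subgroup.index_eq_two_iff]
    refine ⟨⟨A0⁻¹, inv_mem hA0⟩, fun b => ?_⟩
    by_cases hb : (b : SL) ∈ H
    · right
      refine ⟨Subgroup.mem_subgroupOf.2 hb, fun h1 => hA0' ?_⟩
      have h2 : (b : SL) * A0⁻¹ ∈ H := Subgroup.mem_subgroupOf.1 h1
      have h3 := mul_mem (inv_mem hb) h2
      rw [inv_mul_cancel_left] at h3
      exact (inv_mem_iff).1 h3
    · left
      obtain ⟨B, hB, hv⟩ := (key b b.2).resolve_left hb
      refine ⟨Subgroup.mem_subgroupOf.2 ?_, hb⟩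
      show (b : SL) * A0⁻¹ ∈ H
      have h1 : (b : SL) * A0⁻¹ = B * B0⁻¹ := by
        apply sl_ext
        intro v
        rw [mul_smul, mul_smul]
        have h2 : v = A0 • tau u45 (B0⁻¹ • v) := by
          rw [hv0, tau_tau (herm_of_isR isR_u45), smul_inv_smul]
        have h3 : A0⁻¹ • v = tau u45 (B0⁻¹ • v) := by
          conv_lhs => rw [h2]
          rw [inv_smul_smul]
        rw [h3, hv, tau_tau (herm_of_isR isR_u45)]
      rw [h1]
      exact mul_mem hB (inv_mem hB0)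
  have hfin : Finite SL := inferInstance
  exact Subgroup.eq_of_le_of_card_ge hle (by rw [h.fr.card, h'.fr.card])

/-! ### The stabiliser of the standard group -/

theorem det_of_normalize {H : Subgroup SL} (h : Std H) {G : GLx} (hG : Uni G) (hn : cmap G H = H) :
    (G : Mx).det = 1 := by
  classical
  have hiso : herm (ac G u2) (ac G u2) = 0 := by rw [hG, iso_u2]
  have hne : ac G u2 ≠ 0 := by
    intro h0
    apply u2_ne
    apply ac_inj G
    rw [h0]
    exact (Matrix.mulVec_zero _).symm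
  have horb : ∀ v, IsR v ↔ Orb H (ac G u2) (ac G v) := by
    intro v
    rw [← h.orbR]
    constructor
    · intro h1
      have := orb_cmap G h1
      rwa [hn] at this
    · intro h1
      have := orb_cmap G⁻¹ h1
      rw [ac_inv, ac_inv] at this
      have h2 : cmap G⁻¹ H = H := by
        conv_lhs => rw [← hn]
        rw [← cmap_mul, inv_mul_cancel, cmap_one]
      rwa [h2] at this
  have hR : IsR (ac G u2) := by
    rcases isR_or_isS hiso hne with h1 | h1
    · exact h1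
    · exfalso
      have h2 : ∀ v, IsR v ↔ IsS (ac G v) := by
        intro v
        rw [horb, ← h.orbS]
        constructor
        · intro h3
          exact ((h.orbS _).2 h1).trans h3
        · intro h3
          exact ((h.orbS _).2 h1).symm.trans h3
      have c1 := Cfsg.Agent.R08.ModLab.card_isR (fun v => IsR v) (fun v => Iff.rfl)
      have c2 := Cfsg.Agent.R08.ModLab.card_isS (fun v => IsS v) (fun v => Iff.rfl)
      have c3 : (Finset.univ.filter fun v => IsS v).card = (Finset.univ.filter fun v => IsR v).card := by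
        symm
        apply Finset.card_bij (fun v _ => ac G v)
        · intro v hv
          rw [Finset.mem_filter] at hv ⊢
          exact ⟨Finset.mem_univ _, (h2 v).1 hv.2⟩
        · intro u _ v _ huv
          exact ac_inj G huv
        · intro w hw
          rw [Finset.mem_filter] at hw
          refine ⟨ac G⁻¹ w, ?_, ac_inv' _ _⟩
          rw [Finset.mem_filter]
          refine ⟨Finset.mem_univ _, (h2 _).2 ?_⟩
          rw [ac_inv']
          exact hw.2
      rw [c1, c2] at c3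
      omega
  have hS : Sig (ac G) :=
    { add := ac_add G
      smul := ac_smul G
      isom := hG
      isR := fun v hv => (h.orbR _).1 (((h.orbR _).2 hR).trans ((horb v).1 hv)) }
  have hext : ∀ M N : Mx, (∀ v : _root_.Cfsg.Agent.R08.ModVec.W, M.mulVec v = N.mulVec v) → M = N := by
    intro M N hMN
    apply Matrix.ext
    intro i j
    have h3 := congrFun (hMN (Pi.single j 1)) i
    rwa [Matrix.mulVec_single_one, Matrix.mulVec_single_one] at h3
  rcases hS.cases h with ⟨A, hA, hv⟩ | ⟨A, hA, hv⟩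
  · have h1 : (G : Mx) = A.1 := hext _ _ fun v => hv v
    rw [h1, A.2]
  · let P : Mx := (Equiv.swap (4 : Fin 6) 5).toPEquiv.toMatrix
    have hP : ∀ v : _root_.Cfsg.Agent.R08.ModVec.W, P.mulVec v = tau u45 v := by
      intro v
      funext i
      rw [tau_u45]
      show (((Equiv.swap (4 : Fin 6) 5).toPEquiv.toMatrix : Mx).mulVec v) i = _
      rw [PEquiv.toMatrix_toPEquiv_mulVec]
      rfl
    have h1 : (G : Mx) = A.1 * P := hext _ _ fun v => by
      rw [← Matrix.mulVec_mulVec, hP]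
      exact hv v
    have h2 : P * P = 1 := hext _ _ fun v => by
      rw [← Matrix.mulVec_mulVec, hP, hP, tau_tau (herm_of_isR isR_u45), Matrix.one_mulVec]
    have h3 : P.det * P.det = 1 := by rw [← Matrix.det_mul, h2, Matrix.det_one]
    rw [h1, Matrix.det_mul, A.2, one_mul]
    revert h3
    generalize P.det = x
    cases x <;> decide

end Cfsg.Agent.H832.UThree
end

-- part: H832/UThree/Lin
section
/-!
# Subgroups `3.U4(3)` of `SU_6(2)`: existence of coordinates (helper832)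
-/

set_option autoImplicit false

namespace Cfsg.Agent.H832.UThree

open Cfsg Cfsg.Agent.SporRec.GF4 Cfsg.Agent.R08.ModVec Cfsg.Agent.R08.ModMono Cfsg.Agent.R08.Frame
open Cfsg.Agent.R08.ModOrb Cfsg.Agent.R08.ModIso Cfsg.Agent.R08.ModTau Cfsg.Agent.R08.ModSig
open Cfsg.Agent.R08.ModTriv Cfsg.Agent.R08.FrameAGroup Cfsg.Agent.R08.FrameAData
open Cfsg.Agent.R08.FrameALin Cfsg.Agent.R08.FrameAForm
open Finset

/-! ### forms over `F_2` -/

/-- an additive map `F4 → F2` with `1 ↦ 1` -/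
def sF : F4 → ZMod 2
  | .z => 0
  | .o => 1
  | .w => 1
  | .v => 0

theorem sF_add (a b : F4) : sF (a + b) = sF a + sF b := by cases a <;> cases b <;> decide

theorem sF_self {a : F4} (ha : cj a = a) : sF a = 0 ↔ a = 0 := by
  revert ha; cases a <;> decide

theorem cj_herm (v : _root_.Cfsg.Agent.R08.ModVec.W) : cj (herm v v) = herm v v := (herm_symm v v).symm

/-- the quadratic form -/
def qF (v : _root_.Cfsg.Agent.R08.ModVec.W) : ZMod 2 := sF (herm v v)

/-- the bilinear form -/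
def bF (u v : _root_.Cfsg.Agent.R08.ModVec.W) : ZMod 2 := sF (herm u v + cj (herm u v))

theorem qF_eq_zero (v : _root_.Cfsg.Agent.R08.ModVec.W) : qF v = 0 ↔ herm v v = 0 := sF_self (cj_herm v)

theorem bF_add_left (u v w : _root_.Cfsg.Agent.R08.ModVec.W) : bF (u + v) w = bF u w + bF v w := by
  unfold bF
  rw [herm_add_left, cj_add, ← sF_add]
  congr 1
  ring

theorem bF_add_right (u v w : _root_.Cfsg.Agent.R08.ModVec.W) : bF u (v + w) = bF u v + bF u w := by
  unfold bF
  rw [herm_add_right, cj_add, ← sF_add]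
  congr 1
  ring

theorem qF_add (v w : _root_.Cfsg.Agent.R08.ModVec.W) : qF (v + w) = qF v + qF w + bF v w := by
  unfold qF bF
  rw [herm_add_left, herm_add_right, herm_add_right, herm_symm v w, ← sF_add, ← sF_add]
  congr 1
  ring

theorem bF_nondeg (v : _root_.Cfsg.Agent.R08.ModVec.W) (h : ∀ w, bF v w = 0) : v = 0 := by
  apply herm_nondeg
  intro w
  have key : ∀ a : F4, (∀ c : F4, sF (cj c * a + cj (cj c * a)) = 0) → a = 0 := by
    intro a
    revert a
    decide
  apply key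
  intro c
  have := h (c • w)
  unfold bF at this
  rwa [herm_smul_right] at this

/-! ### additive maps commuting with the even monomial matrices -/

/-- monomial map -/
def mon (s : Equiv.Perm (Fin 6)) (d : Fin 6 → F4ˣ) (x : _root_.Cfsg.Agent.R08.ModVec.W) : _root_.Cfsg.Agent.R08.ModVec.W := fun i => (d i : F4) * x (s⁻¹ i)

/-- the units -/
def uw : F4ˣ := ⟨F4.w, F4.v, rfl, rfl⟩

theorem uw_pow : uw ^ 6 = 1 := by
  apply Units.ext
  rfl

theorem eq_cases (a : F4) : a = 0 ∨ a = 1 ∨ a = F4.w ∨ a = F4.w * F4.w := by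
  cases a
  · exact Or.inl rfl
  · exact Or.inr (Or.inl rfl)
  · exact Or.inr (Or.inr (Or.inl rfl))
  · exact Or.inr (Or.inr (Or.inr rfl))

/-- an additive map commuting with multiplication by `w` is linear -/
theorem smul_of_w {J : _root_.Cfsg.Agent.R08.ModVec.W → _root_.Cfsg.Agent.R08.ModVec.W} (hz : J 0 = 0) (h : ∀ x, J (F4.w • x) = F4.w • J x) (a : F4) (x : _root_.Cfsg.Agent.R08.ModVec.W) :
    J (a • x) = a • J x := by
  rcases eq_cases a with rfl | rfl | rfl | rfl
  · rw [zero_smul, zero_smul, hz]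
  · rw [one_smul, one_smul]
  · exact h x
  · rw [mul_smul, h, h, ← mul_smul]

theorem scalar_of_commute {J : _root_.Cfsg.Agent.R08.ModVec.W → _root_.Cfsg.Agent.R08.ModVec.W} (hadd : ∀ x y, J (x + y) = J x + J y)
    (hm : ∀ s d, Equiv.Perm.sign s = 1 → ∏ i, d i = 1 → ∀ x, J (mon s d x) = mon s d (J x)) :
    ∃ γ : F4, ∀ x, J x = γ • x := by
  have hz : J 0 = 0 := by
    have := hadd 0 0
    rw [add_zero] at this
    exact left_eq_add.1 this
  -- linear
  have hw : ∀ x, J (F4.w • x) = F4.w • J x := by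
    intro x
    have h1 := hm 1 (fun _ => uw) (by simp) (by simp [uw_pow]) x
    exact h1
  have hlin := smul_of_w hz hw
  -- diagonal
  have hdiag : ∀ i j : Fin 6, j ≠ i → J (e i) j = 0 := by
    intro i j hji
    obtain ⟨k, hki, hkj⟩ : ∃ k : Fin 6, k ≠ i ∧ k ≠ j := by
      revert i j; decide
    let d : Fin 6 → F4ˣ := fun l => if l = j then uw else if l = k then uw⁻¹ else 1
    have hd : ∏ l, d l = 1 := by
      have h1 : ∀ i j k : Fin 6, k ≠ j → (∏ l, (if l = j then uw else if l = k then uw⁻¹ else 1)) = (1 : F4ˣ) := by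
        intro i j k hkj
        rw [← Finset.mul_prod_erase _ _ (Finset.mem_univ j), if_pos rfl,
          ← Finset.mul_prod_erase _ _ (Finset.mem_erase.2 ⟨hkj, Finset.mem_univ k⟩), if_neg hkj, if_pos rfl,
          ← mul_assoc, mul_inv_cancel, one_mul]
        apply Finset.prod_eq_one
        intro l hl
        rw [Finset.mem_erase, Finset.mem_erase] at hl
        rw [if_neg hl.2.1, if_neg hl.1]
      exact h1 i j k hkj
    have h1 := hm 1 d (by simp) hd (e i)
    have h2 : mon 1 d (e i) = e i := by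
      funext l
      show (d l : F4) * e i l = e i l
      by_cases hl : l = i
      · subst hl
        have : d l = 1 := by
          show (if l = j then uw else if l = k then uw⁻¹ else 1) = 1
          rw [if_neg (Ne.symm hji), if_neg (Ne.symm hki)]
        rw [this, Units.val_one, one_mul]
      · rw [e_apply, if_neg hl, mul_zero]
    rw [h2] at h1
    have h3 := congrFun h1 j
    have h4 : mon 1 d (J (e i)) j = F4.w * J (e i) j := by
      show (d j : F4) * J (e i) j = _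
      have : d j = uw := if_pos rfl
      rw [this]
      rfl
    rw [h4] at h3
    revert h3
    generalize J (e i) j = x
    cases x <;> decide
  have heq : ∀ i j : Fin 6, i ≠ j → J (e i) i = J (e j) j := by
    intro i j hij
    obtain ⟨k, l, hki, hkj, hli, hlj, hkl⟩ : ∃ k l : Fin 6, k ≠ i ∧ k ≠ j ∧ l ≠ i ∧ l ≠ j ∧ k ≠ l := by
      revert i j; decide +kernel
    let s : Equiv.Perm (Fin 6) := Equiv.swap i j * Equiv.swap k l
    have hs : Equiv.Perm.sign s = 1 := by
      rw [Equiv.Perm.sign_mul, Equiv.Perm.sign_swap hij, Equiv.Perm.sign_swap hkl]; rfl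
    have hsi : s⁻¹ j = i := by
      rw [Equiv.Perm.inv_eq_iff_eq]
      show j = Equiv.swap i j (Equiv.swap k l i)
      rw [Equiv.swap_apply_of_ne_of_ne (Ne.symm hki) (Ne.symm hli), Equiv.swap_apply_left]
    have h1 := hm s (fun _ => 1) hs (by simp) (e i)
    have h2 : mon s (fun _ => 1) (e i) = e j := by
      funext m
      show ((1 : F4ˣ) : F4) * e i (s⁻¹ m) = e j m
      rw [Units.val_one, one_mul, e_apply, e_apply]
      have h3 : s⁻¹ m = i ↔ m = j := by
        rw [← hsi]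
        exact (s⁻¹).injective.eq_iff
      by_cases hm' : m = j
      · rw [if_pos hm', if_pos (h3.2 hm')]
      · rw [if_neg hm', if_neg (fun h => hm' (h3.1 h))]
    rw [h2] at h1
    have h3 := congrFun h1 j
    have h4 : mon s (fun _ => 1) (J (e i)) j = J (e i) i := by
      show ((1 : F4ˣ) : F4) * J (e i) (s⁻¹ j) = _
      rw [Units.val_one, one_mul, hsi]
    rw [h4] at h3
    exact h3.symm
  refine ⟨J (e 0) 0, fun x => ?_⟩
  have hJe : ∀ i, J (e i) = J (e 0) 0 • e i := by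
    intro i
    funext j
    rw [Pi.smul_apply, e_apply, smul_eq_mul]
    by_cases hj : j = i
    · subst hj
      rw [if_pos rfl, mul_one]
      by_cases h0 : j = 0
      · rw [h0]
      · exact heq j 0 h0
    · rw [if_neg hj, mul_zero, hdiag i j hj]
  have hsum : ∀ (t : Finset (Fin 6)) (f : Fin 6 → _root_.Cfsg.Agent.R08.ModVec.W), J (∑ i ∈ t, f i) = ∑ i ∈ t, J (f i) := by
    intro t f
    classical
    induction t using Finset.induction_on with
    | empty => simp [hz]
    | insert a t ha ih => rw [Finset.sum_insert ha, Finset.sum_insert ha, hadd, ih]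
  conv_lhs => rw [eq_sum x]
  conv_rhs => rw [eq_sum x, Finset.smul_sum]
  rw [hsum]
  refine Finset.sum_congr rfl fun i _ => ?_
  rw [hlin, hJe, smul_smul, smul_smul, mul_comm]

/-! ### unitary maps from the quadratic form -/

theorem herm_of_qF {g : _root_.Cfsg.Agent.R08.ModVec.W → _root_.Cfsg.Agent.R08.ModVec.W} (hadd : ∀ x y, g (x + y) = g x + g y)
    (hs : ∀ (a : F4) x, g (a • x) = a • g x) (hq : ∀ x, herm (g x) (g x) = 0 ↔ herm x x = 0) (u v : _root_.Cfsg.Agent.R08.ModVec.W) :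
    herm (g u) (g v) = herm u v := by
  have h1 : ∀ x, herm (g x) (g x) = herm x x := by
    intro x
    have h2 := cj_herm x
    have h3 := cj_herm (g x)
    have h4 := hq x
    revert h2 h3 h4
    generalize herm x x = a
    generalize herm (g x) (g x) = b
    cases a <;> cases b <;> decide
  have h2 : ∀ x y, herm (g x) (g y) + cj (herm (g x) (g y)) = herm x y + cj (herm x y) := by
    intro x y
    have h3 := h1 (x + y)
    rw [hadd, herm_add_left, herm_add_right, herm_add_right, herm_add_left, herm_add_right,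
      herm_add_right, h1, h1, herm_symm (g x) (g y), herm_symm x y] at h3
    have h4 : herm x x + herm (g x) (g y) + (cj (herm (g x) (g y)) + herm y y) =
        (herm x x + herm y y) + (herm (g x) (g y) + cj (herm (g x) (g y))) := by ring
    have h5 : herm x x + herm x y + (cj (herm x y) + herm y y) =
        (herm x x + herm y y) + (herm x y + cj (herm x y)) := by ring
    rw [h4, h5] at h3
    exact add_left_cancel h3
  have h3 : ∀ c : F4, c * herm (g u) (g v) + cj (c * herm (g u) (g v)) = c * herm u v + cj (c * herm u v) := by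
    intro c
    have := h2 (c • u) v
    rwa [hs, herm_smul_left, herm_smul_left] at this
  have key : ∀ a b : F4, (∀ c : F4, c * a + cj (c * a) = c * b + cj (c * b)) → a = b := by
    decide
  exact key _ _ h3

/-- a semilinear correction -/
theorem exists_linear {K : Subgroup SL} (lab : _root_.Cfsg.Agent.R08.ModVec.W ≃+ _root_.Cfsg.Agent.R08.ModVec.W)
    (mono : ∀ (s : Equiv.Perm (Fin 6)) (d : Fin 6 → F4ˣ), Equiv.Perm.sign s = 1 → ∏ i, d i = 1 →
      ∃ A ∈ K, ∀ (v : _root_.Cfsg.Agent.R08.ModVec.W), lab (A • v) = mon s d (lab v))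
    (hq : ∀ x, herm (lab x) (lab x) = 0 ↔ herm x x = 0) :
    ∃ g : _root_.Cfsg.Agent.R08.ModVec.W ≃+ _root_.Cfsg.Agent.R08.ModVec.W, (∀ x, g (F4.w • x) = F4.w • g x) ∧
      (∀ (s : Equiv.Perm (Fin 6)) (d : Fin 6 → F4ˣ), Equiv.Perm.sign s = 1 → ∏ i, d i = 1 →
      ∃ A ∈ K, ∀ (v : _root_.Cfsg.Agent.R08.ModVec.W), g (A • v) = mon s d (g v)) ∧
      ∀ x, herm (g x) (g x) = 0 ↔ herm x x = 0 := by
  obtain ⟨γ, hγ⟩ := scalar_of_commute (J := fun x => lab (F4.w • lab.symm x))
    (fun x y => by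
      show lab (F4.w • lab.symm (x + y)) = lab (F4.w • lab.symm x) + lab (F4.w • lab.symm y)
      rw [map_add, smul_add, map_add])
    (fun s d hs hd x => by
      obtain ⟨A, hA, hAv⟩ := mono s d hs hd
      show lab (F4.w • lab.symm (mon s d x)) = mon s d (lab (F4.w • lab.symm x))
      have h1 : lab.symm (mon s d x) = A • lab.symm x := by
        rw [AddEquiv.symm_apply_eq, hAv, AddEquiv.apply_symm_apply]
      rw [h1, ← smul_comm A F4.w, hAv])
  have hγ' : ∀ v, lab (F4.w • v) = γ • lab v := by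
    intro v
    have := hγ (lab v)
    rwa [AddEquiv.symm_apply_apply] at this
  have h2 : γ * γ = γ + 1 := by
    have h3 : ∀ v : _root_.Cfsg.Agent.R08.ModVec.W, F4.w • F4.w • v = F4.w • v + v := by
      intro v
      rw [smul_smul]
      have : (F4.w * F4.w : F4) = F4.w + 1 := rfl
      rw [this, add_smul, one_smul]
    have h4 := congrArg lab (h3 (lab.symm (e 0)))
    rw [map_add, hγ', hγ', AddEquiv.apply_symm_apply, smul_smul] at h4
    have h5 := congrFun h4 0
    rw [Pi.add_apply, Pi.smul_apply, Pi.smul_apply, e_apply, if_pos rfl, smul_eq_mul, smul_eq_mul, mul_one,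
      mul_one] at h5
    exact h5
  have h3 : γ = F4.w ∨ γ = F4.v := by
    revert h2; cases γ <;> decide
  rcases h3 with rfl | rfl
  · exact ⟨lab, hγ', mono, hq⟩
  · let cW : _root_.Cfsg.Agent.R08.ModVec.W ≃+ _root_.Cfsg.Agent.R08.ModVec.W :=
      { toFun := fun x i => cj (x i)
        invFun := fun x i => cj (x i)
        left_inv := fun x => funext fun i => cj_cj _
        right_inv := fun x => funext fun i => cj_cj _
        map_add' := fun x y => funext fun i => cj_add _ _ }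
    have hc : ∀ (x : _root_.Cfsg.Agent.R08.ModVec.W) i, cW x i = cj (x i) := fun _ _ => rfl
    refine ⟨lab.trans cW, fun x => ?_, fun s d hs hd => ?_, fun x => ?_⟩
    · show cW (lab (F4.w • x)) = F4.w • cW (lab x)
      rw [hγ']
      funext i
      rw [hc, Pi.smul_apply, Pi.smul_apply, hc, smul_eq_mul, smul_eq_mul, cj_mul]
      rfl
    · obtain ⟨A, hA, hAv⟩ := mono s (fun i => d i * d i) hs (by
        rw [Finset.prod_mul_distrib, hd, mul_one])
      refine ⟨A, hA, fun v => ?_⟩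
      show cW (lab (A • v)) = mon s d (cW (lab v))
      rw [hAv]
      funext i
      show cj (((d i * d i : F4ˣ) : F4) * lab v (s⁻¹ i)) = (d i : F4) * cj (lab v (s⁻¹ i))
      rw [cj_mul, Units.val_mul, cj_mul]
      have h4 : ∀ a : F4, a ≠ 0 → cj a * cj a = a := by decide
      rw [h4 _ (d i).ne_zero]
    · show herm (cW (lab x)) (cW (lab x)) = 0 ↔ _
      have h4 : herm (cW (lab x)) (cW (lab x)) = cj (herm (lab x) (lab x)) := by
        rw [herm_def, herm_def, cj_sum]
        exact Finset.sum_congr rfl fun i _ => by rw [hc, cj_mul]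
      rw [h4, cj_eq_zero]
      exact hq x

/-- an invertible matrix from a linear bijection -/
theorem exists_mat (g : _root_.Cfsg.Agent.R08.ModVec.W ≃+ _root_.Cfsg.Agent.R08.ModVec.W) (hs : ∀ (a : F4) x, g (a • x) = a • g x) : ∃ G : GLx, ∀ v, ac G v = g v := by
  let l : _root_.Cfsg.Agent.R08.ModVec.W →ₗ[F4] _root_.Cfsg.Agent.R08.ModVec.W := { toFun := g, map_add' := map_add g, map_smul' := hs }
  let l' : _root_.Cfsg.Agent.R08.ModVec.W →ₗ[F4] _root_.Cfsg.Agent.R08.ModVec.W :=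
    { toFun := g.symm, map_add' := map_add g.symm
      map_smul' := fun a x => by
        rw [AddEquiv.symm_apply_eq, RingHom.id_apply, hs, AddEquiv.apply_symm_apply] }
  have h1 : l ∘ₗ l' = LinearMap.id := LinearMap.ext fun x => g.apply_symm_apply x
  have h2 : l' ∘ₗ l = LinearMap.id := LinearMap.ext fun x => g.symm_apply_apply x
  refine ⟨⟨LinearMap.toMatrix' l, LinearMap.toMatrix' l', ?_, ?_⟩, fun v => ?_⟩
  · rw [← LinearMap.toMatrix'_comp, h1, LinearMap.toMatrix'_id]
  · rw [← LinearMap.toMatrix'_comp, h2, LinearMap.toMatrix'_id]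
  · show (LinearMap.toMatrix' l).mulVec v = _
    rw [LinearMap.toMatrix'_mulVec]
    rfl

theorem card_W4096 : Nat.card _root_.Cfsg.Agent.R08.ModVec.W = 4096 := by
  rw [Nat.card_eq_fintype_card, Fintype.card_fun, show Fintype.card F4 = 4 from rfl, Fintype.card_fin]
  norm_num

theorem card_of_ext {S : Type*} [Group S] {K : Subgroup SL} {π : ↥K →* S}
    (E : _root_.Cfsg.Agent.R08.FrameAGroup.Ext π) (hS : Nat.card S = 3265920) : Nat.card ↥K = 9797760 := by
  have h1 := π.ker.card_mul_index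
  rw [Subgroup.index_ker, MonoidHom.range_eq_top.2 E.surj, Subgroup.card_top, hS, E.card] at h1
  omega

/-- **Coordinates.** -/
theorem exists_linFrame {S : Type*} [Group S] (U : UData S) (hcS : Nat.card S = 3265920)
    {K : Subgroup SL} (hK : K ≤ Cfsg.SU 6 F4 2) {π : ↥K →* S} (E : _root_.Cfsg.Agent.R08.FrameAGroup.Ext π) :
    ∃ G : GLx, Uni G ∧ LinFrame F4 (cmap G K) := by
  obtain ⟨n0, hn0, hn1, -, hall⟩ := E.exists_gen
  have I := E.input U hn0 hn1 hall
  have hf : ∀ g : ↥K, (∀ v : _root_.Cfsg.Agent.R08.ModVec.W, g • v = v) → g = 1 := by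
    intro g hg
    apply Subtype.ext
    apply sl_ext
    intro v
    have := hg v
    rw [show ((1 : ↥K) : SL) = 1 from rfl, one_smul]
    exact this
  obtain ⟨L⟩ := exists_labData (H := ↥K) (V := _root_.Cfsg.Agent.R08.ModVec.W) (F := F4) rfl W_add_self hf card_W4096 I
  have hinv : ∀ (g : ↥K) v, qF (g • v) = qF v := by
    intro g v
    show sF (herm ((g : SL) • v) ((g : SL) • v)) = sF (herm v v)
    have h1 : herm ((g : SL) • v) ((g : SL) • v) = herm v v := hK g.2 v v
    rw [h1]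
  have f := form_of_labData L qF bF bF_add_left bF_add_right qF_add bF_nondeg hinv
  have hq : ∀ x, herm (L.lab x) (L.lab x) = 0 ↔ herm x x = 0 := by
    intro x
    have h1 := f.Q_eq_zero rfl (L.lab x)
    rw [AddEquiv.symm_apply_apply, qF_eq_zero] at h1
    exact h1.symm
  obtain ⟨g, hgw, hgm, hgq⟩ := exists_linear (K := K) L.lab (fun s d hs hd => by
    obtain ⟨A, hA⟩ := L.mono s d hs hd
    exact ⟨A, A.2, fun v => funext fun i => hA v i⟩) hq
  have hgs := smul_of_w (map_zero g) hgw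
  obtain ⟨G, hG⟩ := exists_mat g hgs
  have hU : Uni G := fun u v => by
    rw [hG, hG]
    exact herm_of_qF (map_add g) hgs hgq u v
  refine ⟨G, hU, cmap_le hU hK, fun s d hs hd => ?_, ?_⟩
  · obtain ⟨A, hA, hAv⟩ := hgm s d hs hd
    refine ⟨cg G A, ⟨A, hA, rfl⟩, fun v i => ?_⟩
    obtain ⟨w, rfl⟩ : ∃ w, ac G w = v := ⟨ac G⁻¹ v, ac_inv' _ _⟩
    show (cg G A • ac G w) i = _
    rw [cg_smul, hG, hAv, hG]
    rfl
  · rw [card_cmap, card_of_ext E hcS]

/-- **Every `3.U4(3)` in `SU_6(2)` is conjugate to a standard one by a unitary matrix.** -/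
theorem exists_std_conj {S : Type*} [Group S] (U : UData S) (hcS : Nat.card S = 3265920)
    {K : Subgroup SL} (hK : K ≤ Cfsg.SU 6 F4 2) {π : ↥K →* S} (E : _root_.Cfsg.Agent.R08.FrameAGroup.Ext π) :
    ∃ G : GLx, Uni G ∧ Std (cmap G K) := by
  obtain ⟨G, hG, hF⟩ := exists_linFrame U hcS hK E
  obtain ⟨D, hD⟩ := exists_std hF
  refine ⟨Dg D * G, (uni_Dg D).mul hG, ?_⟩
  rw [cmap_mul]
  exact hD

end Cfsg.Agent.H832.UThree
end

-- part: H832/UThree/Main
section
/-!
# The three classes of subgroups `3.U4(3)` of `SU_6(2)` (helper832)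

* `main` : for a group `Γ ≃* SU 6 F4 2`, if `H0` is standard with `H0 → S = PSU_4(3)` (kernel of order 3), there are
  exactly three classes of subgroups `K` of `Γ` with `|Z(K)| = 3`, `K / Z(K) ≅ S`.
-/

set_option autoImplicit false

namespace Cfsg.Agent.H832.UThree

open Cfsg Cfsg.Agent.SporRec.GF4 Cfsg.Agent.R08.ModVec Cfsg.Agent.R08.ModMono Cfsg.Agent.R08.Frame
open Cfsg.Agent.R08.ModOrb Cfsg.Agent.R08.ModIso Cfsg.Agent.R08.ModTau Cfsg.Agent.R08.ModSig
open Cfsg.Agent.R08.ModTriv Cfsg.Agent.R08.FrameAGroup Cfsg.Agent.R08.FrameAData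

universe u v

/-! ### extensions -/

section Ext

variable {H : Type u} {S : Type v} [Group H] [Group S]

theorem pr_of_ext (hS : Subgroup.center S = ⊥) {π : H →* S} (E : _root_.Cfsg.Agent.R08.FrameAGroup.Ext π) :
    Nat.card ↥(Subgroup.center H) = 3 ∧ Nonempty (H ⧸ Subgroup.center H ≃* S) := by
  have hcen : Subgroup.center H = π.ker := by
    apply le_antisymm
    · intro z hz
      rw [MonoidHom.mem_ker]
      have h1 : π z ∈ Subgroup.center S := by
        rw [Subgroup.mem_center_iff]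
        intro s
        obtain ⟨k, rfl⟩ := E.surj s
        rw [← map_mul, ← map_mul, Subgroup.mem_center_iff.1 hz k]
      rw [hS] at h1
      exact Subgroup.mem_bot.1 h1
    · intro z hz
      rw [Subgroup.mem_center_iff]
      exact fun g => E.central hz g
  refine ⟨by rw [hcen]; exact E.card, ?_⟩
  exact ⟨(QuotientGroup.quotientMulEquivOfEq hcen).trans
    (QuotientGroup.quotientKerEquivOfSurjective π E.surj)⟩

theorem ext_of_pr (hS : commutator S = ⊤) (hc : Nat.card ↥(Subgroup.center H) = 3)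
    (e : H ⧸ Subgroup.center H ≃* S) :
    _root_.Cfsg.Agent.R08.FrameAGroup.Ext (e.toMonoidHom.comp (QuotientGroup.mk' (Subgroup.center H))) where
  surj := e.surjective.comp (QuotientGroup.mk'_surjective _)
  card := by
    have : (e.toMonoidHom.comp (QuotientGroup.mk' (Subgroup.center H))).ker = Subgroup.center H := by
      ext x
      rw [MonoidHom.mem_ker]
      show e (QuotientGroup.mk' (Subgroup.center H) x) = 1 ↔ _
      rw [map_eq_one_iff e e.injective]
      exact QuotientGroup.eq_one_iff x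
    rw [this, hc]
  perf := hS

theorem ext_comp {H' : Type*} [Group H'] {π : H →* S} (E : _root_.Cfsg.Agent.R08.FrameAGroup.Ext π) (e : H' ≃* H) :
    _root_.Cfsg.Agent.R08.FrameAGroup.Ext (π.comp e.toMonoidHom) where
  surj := E.surj.comp e.surjective
  card := by
    rw [← E.card]
    refine Nat.card_congr ⟨fun x => ⟨e x, x.2⟩, fun y => ⟨e.symm y, ?_⟩, fun x => ?_, fun y => ?_⟩
    · rw [MonoidHom.mem_ker]
      show π (e (e.symm y)) = 1
      rw [e.apply_symm_apply]
      exact y.2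
    · exact Subtype.ext (e.symm_apply_apply _)
    · exact Subtype.ext (e.apply_symm_apply _)
  perf := E.perf

theorem index_ne_two {π : H →* S} (E : _root_.Cfsg.Agent.R08.FrameAGroup.Ext π) (N : Subgroup H) : N.index ≠ 2 := by
  intro hN
  have hn : N.Normal := Subgroup.normal_of_index_eq_two hN
  have hc : Nat.card (H ⧸ N) = 2 := hN
  have h2 : Fact (Nat.Prime 2) := ⟨Nat.prime_two⟩
  have hcyc : IsCyclic (H ⧸ N) := isCyclic_of_prime_card hc
  let _ : CommGroup (H ⧸ N) := IsCyclic.commGroup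
  have h1 : ∀ g : H, (QuotientGroup.mk' N) g = 1 := by
    apply E.hom_eq_one (QuotientGroup.mk' N)
    intro n hn'
    have h3 : n ^ 3 = 1 := by
      obtain ⟨n0, -, -, h3, hall⟩ := E.exists_gen
      rcases hall n hn' with rfl | rfl | rfl
      · exact one_pow 3
      · exact h3
      · rw [← pow_mul, mul_comm, pow_mul, h3, one_pow]
    have h4 : (QuotientGroup.mk' N n) ^ 2 = 1 := by
      rw [← hc]
      exact pow_card_eq_one'
    have h5 : (QuotientGroup.mk' N n) ^ 3 = 1 := by rw [← map_pow, h3, map_one]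
    rw [pow_succ, h4, one_mul] at h5
    exact h5
  have h6 : N = ⊤ := by
    rw [eq_top_iff]
    intro g _
    exact (QuotientGroup.eq_one_iff g).1 (h1 g)
  rw [h6, Subgroup.index_top] at hN
  omega

end Ext

/-! ### the classes in `SL` -/

/-- an element of `SL` as an invertible matrix -/
def gl (s : SL) : GLx where
  val := s.1
  inv := (s⁻¹ : SL).1
  val_inv := congrArg Subtype.val (mul_inv_cancel s)
  inv_val := congrArg Subtype.val (inv_mul_cancel s)

theorem uni_gl {s : SL} (hs : s ∈ Cfsg.SU 6 F4 2) : Uni (gl s) := fun u v => hs u v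

theorem mem_SU_of_uni {s : SL} (hs : Uni (gl s)) : s ∈ Cfsg.SU 6 F4 2 := fun u v => hs u v

/-- `diag(c, 1, 1, 1, 1, 1)` -/
def Dc (c : F4ˣ) : GLx := Dg ![c, 1, 1, 1, 1, 1]

theorem uni_Dc (c : F4ˣ) : Uni (Dc c) := uni_Dg _

theorem det_Dc (c : F4ˣ) : ((Dc c : GLx) : Mx).det = c := by
  show (Matrix.diagonal fun i => ((![c, 1, 1, 1, 1, 1] i : F4ˣ) : F4)).det = c
  rw [Matrix.det_diagonal, Fin.prod_univ_six]
  show (c : F4) * 1 * 1 * 1 * 1 * 1 = c
  simp only [mul_one]

theorem Dc_inv (c : F4ˣ) : (Dc c)⁻¹ = Dc c⁻¹ := by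
  unfold Dc
  rw [Dg_inv]
  congr 1
  funext i
  fin_cases i <;> rfl

/-- the determinant as a unit -/
noncomputable def dt (G : GLx) : F4ˣ where
  val := (G : Mx).det
  inv := ((G⁻¹ : GLx) : Mx).det
  val_inv := by rw [← Matrix.det_mul, Units.mul_inv, Matrix.det_one]
  inv_val := by rw [← Matrix.det_mul, Units.inv_mul, Matrix.det_one]

theorem coe_dt (G : GLx) : ((dt G : F4ˣ) : F4) = Matrix.det (G : Mx) := by
  unfold dt
  exact Units.val_mk _ _ _ _

theorem dt_mul (G G' : GLx) : dt (G * G') = dt G * dt G' := by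
  apply Units.ext
  rw [coe_dt, Units.val_mul, Units.val_mul, coe_dt, coe_dt, Matrix.det_mul]

theorem dt_inv (G : GLx) : dt G⁻¹ = (dt G)⁻¹ := by
  apply eq_inv_of_mul_eq_one_left
  rw [← dt_mul, inv_mul_cancel]
  apply Units.ext
  rw [coe_dt, Units.val_one, Units.val_one, Matrix.det_one]

theorem dt_Dc (c : F4ˣ) : dt (Dc c) = c := by
  apply Units.ext
  rw [coe_dt, det_Dc]

theorem dt_gl (s : SL) : dt (gl s) = 1 := by
  apply Units.ext
  rw [coe_dt, Units.val_one]
  exact s.2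

theorem exists_class {S : Type*} [Group S] (U : UData S) (hcS : Nat.card S = 3265920)
    {H0 : Subgroup SL} (h0 : Std H0) {K : Subgroup SL} (hK : K ≤ Cfsg.SU 6 F4 2) {π : ↥K →* S}
    (E : _root_.Cfsg.Agent.R08.FrameAGroup.Ext π) : ∃ (c : F4ˣ) (s : SL), s ∈ Cfsg.SU 6 F4 2 ∧ cmap (gl s) K = cmap (Dc c) H0 := by
  obtain ⟨G, hG, hStd⟩ := exists_std_conj U hcS hK E
  have hno : NoTwo (cmap G K) := by
    intro N
    exact index_ne_two (ext_comp E (K.equivMapOfInjective (cg G).toMonoidHom (cg G).injective).symm) N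
  have heq : cmap G K = H0 := std_unique h0 hStd hno
  have hdet : (((Dc (dt G))⁻¹ * G : GLx) : Mx).det = 1 := by
    rw [← coe_dt, dt_mul, dt_inv, dt_Dc, inv_mul_cancel, Units.val_one]
  have hs : gl ⟨((Dc (dt G))⁻¹ * G : GLx), hdet⟩ = (Dc (dt G))⁻¹ * G := by
    apply Units.ext
    show (((Dc (dt G))⁻¹ * G : GLx) : Mx) = _
    exact rfl
  refine ⟨(dt G)⁻¹, ⟨((Dc (dt G))⁻¹ * G : GLx), hdet⟩, ?_, ?_⟩
  · apply mem_SU_of_uni
    rw [hs]
    exact (uni_Dg _).inv.mul hG
  · rw [hs, cmap_mul, heq, Dc_inv]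

theorem nonconj {H0 : Subgroup SL} (h0 : Std H0) {c c' : F4ˣ} {s : SL} (hs : s ∈ Cfsg.SU 6 F4 2)
    (h : cmap (gl s) (cmap (Dc c) H0) = cmap (Dc c') H0) : c = c' := by
  have h1 : cmap ((Dc c')⁻¹ * (gl s * Dc c)) H0 = H0 := by
    rw [cmap_mul, cmap_mul, h, ← cmap_mul, inv_mul_cancel, cmap_one]
  have h2 := det_of_normalize h0 ((uni_Dc c').inv.mul ((uni_gl hs).mul (uni_Dc c))) h1
  have h3 : dt ((Dc c')⁻¹ * (gl s * Dc c)) = 1 := by
    apply Units.ext
    rw [coe_dt, h2, Units.val_one]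
  rw [dt_mul, dt_mul, dt_inv, dt_Dc, dt_Dc, dt_gl, one_mul, inv_mul_eq_one] at h3
  exact h3.symm

theorem units_cases (c : F4ˣ) : c = 1 ∨ c = uw ∨ c = uw * uw := by
  rcases eq_cases (c : F4) with h | h | h | h
  · exact absurd h c.ne_zero
  · exact Or.inl (Units.ext h)
  · exact Or.inr (Or.inl (Units.ext h))
  · exact Or.inr (Or.inr (Units.ext h))

theorem uw_ne_one : uw ≠ 1 := fun h => by
  have := congrArg Units.val h
  exact absurd this (by decide)

/-! ### the classes in `SU` -/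

/-- `SU_6(2)` -/
abbrev SUx : Type := ↥(Cfsg.SU 6 F4 2)

/-- the property of the subgroups -/
def Pr (S : Type v) [Group S] {Γ : Type u} [Group Γ] (K : Subgroup Γ) : Prop :=
  Nat.card ↥(Subgroup.center ↥K) = 3 ∧ Nonempty (↥K ⧸ Subgroup.center ↥K ≃* S)

theorem conj_map (g : SUx) (K : Subgroup SUx) :
    (K.map (MulAut.conj g).toMonoidHom).map (Cfsg.SU 6 F4 2).subtype =
      cmap (gl (g : SL)) (K.map (Cfsg.SU 6 F4 2).subtype) := by
  ext A
  constructor
  · rintro ⟨_, ⟨x, hx, rfl⟩, rfl⟩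
    exact ⟨(x : SL), ⟨x, hx, rfl⟩, rfl⟩
  · rintro ⟨_, ⟨x, hx, rfl⟩, rfl⟩
    exact ⟨g * x * g⁻¹, ⟨x, hx, rfl⟩, rfl⟩

theorem map_inj {K K' : Subgroup SUx}
    (h : K.map (Cfsg.SU 6 F4 2).subtype = K'.map (Cfsg.SU 6 F4 2).subtype) : K = K' :=
  Subgroup.map_injective (Cfsg.SU 6 F4 2).subtype_injective h

/-- the subgroup of `SU_6(2)` -/
def Kc (H0 : Subgroup SL) (c : F4ˣ) : Subgroup SUx := (cmap (Dc c) H0).subgroupOf (Cfsg.SU 6 F4 2)

theorem Kc_map {H0 : Subgroup SL} (h0 : Std H0) (c : F4ˣ) :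
    (Kc H0 c).map (Cfsg.SU 6 F4 2).subtype = cmap (Dc c) H0 := by
  unfold Kc
  rw [Subgroup.subgroupOf_map_subtype, inf_eq_left]
  exact cmap_le (uni_Dg _) h0.fr.le

variable {S : Type v} [Group S]

/-- **The three classes.** -/
theorem main_SU (U : UData S) (hcS : Nat.card S = 3265920) (hperf : commutator S = ⊤)
    (hcen : Subgroup.center S = ⊥) {H0 : Subgroup SL} (h0 : Std H0) {π0 : ↥H0 →* S} (E0 : _root_.Cfsg.Agent.R08.FrameAGroup.Ext π0) :
    ∃ K₁ K₂ K₃ : Subgroup SUx, (∀ K ∈ [K₁, K₂, K₃], Pr S K) ∧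
      (¬ ∃ g : SUx, K₁.map (MulAut.conj g).toMonoidHom = K₂) ∧
      (¬ ∃ g : SUx, K₁.map (MulAut.conj g).toMonoidHom = K₃) ∧
      (¬ ∃ g : SUx, K₂.map (MulAut.conj g).toMonoidHom = K₃) ∧
      ∀ K : Subgroup SUx, Pr S K → ∃ g : SUx, K.map (MulAut.conj g).toMonoidHom = K₁ ∨
        K.map (MulAut.conj g).toMonoidHom = K₂ ∨ K.map (MulAut.conj g).toMonoidHom = K₃ := by
  have hpr : ∀ c, Pr S (Kc H0 c) := by
    intro c
    have e1 : ↥(Kc H0 c) ≃* ↥(cmap (Dc c) H0) := Subgroup.subgroupOfEquivOfLe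
      (cmap_le (uni_Dg _) h0.fr.le)
    have e2 : ↥H0 ≃* ↥(cmap (Dc c) H0) := H0.equivMapOfInjective (cg (Dc c)).toMonoidHom (cg (Dc c)).injective
    exact pr_of_ext hcen (ext_comp E0 (e1.trans e2.symm))
  have hnc : ∀ c c' : F4ˣ, c ≠ c' → ¬ ∃ g : SUx, (Kc H0 c).map (MulAut.conj g).toMonoidHom = Kc H0 c' := by
    rintro c c' hne ⟨g, hg⟩
    apply hne
    apply nonconj h0 g.2
    rw [← Kc_map h0 c, ← conj_map, hg, Kc_map h0]
  have hall : ∀ K : Subgroup SUx, Pr S K → ∃ (c : F4ˣ) (g : SUx),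
      K.map (MulAut.conj g).toMonoidHom = Kc H0 c := by
    rintro K ⟨hc, ⟨e⟩⟩
    have E := ext_of_pr hperf hc e
    have e1 : ↥K ≃* ↥(K.map (Cfsg.SU 6 F4 2).subtype) :=
      K.equivMapOfInjective _ (Cfsg.SU 6 F4 2).subtype_injective
    obtain ⟨c, s, hs, h⟩ := exists_class U hcS h0 (K := K.map (Cfsg.SU 6 F4 2).subtype)
      (Subgroup.map_subtype_le _) (ext_comp E e1.symm)
    refine ⟨c, ⟨s, hs⟩, map_inj ?_⟩
    rw [conj_map, Kc_map h0]
    exact h
  have n1 : (1 : F4ˣ) ≠ uw := uw_ne_one.symm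
  have n2 : (1 : F4ˣ) ≠ uw * uw := fun h => by
    have := congrArg Units.val h
    exact absurd this (by decide)
  have n3 : uw ≠ uw * uw := fun h => by
    have := congrArg Units.val h
    exact absurd this (by decide)
  refine ⟨Kc H0 1, Kc H0 uw, Kc H0 (uw * uw), ?_, hnc _ _ n1, hnc _ _ n2, hnc _ _ n3, ?_⟩
  · intro K hK
    simp only [List.mem_cons, List.not_mem_nil, or_false] at hK
    rcases hK with rfl | rfl | rfl
    · exact hpr _
    · exact hpr _
    · exact hpr _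
  · intro K hK
    obtain ⟨c, g, hg⟩ := hall K hK
    rcases units_cases c with rfl | rfl | rfl
    · exact ⟨g, Or.inl hg⟩
    · exact ⟨g, Or.inr (Or.inl hg)⟩
    · exact ⟨g, Or.inr (Or.inr hg)⟩

/-! ### transport -/

/-- the statement for a group `Γ` -/
def Three (S : Type v) [Group S] (Γ : Type u) [Group Γ] : Prop :=
  ∃ K₁ K₂ K₃ : Subgroup Γ, (∀ K ∈ [K₁, K₂, K₃], Pr S K) ∧
      (¬ ∃ g : Γ, K₁.map (MulAut.conj g).toMonoidHom = K₂) ∧
      (¬ ∃ g : Γ, K₁.map (MulAut.conj g).toMonoidHom = K₃) ∧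
      (¬ ∃ g : Γ, K₂.map (MulAut.conj g).toMonoidHom = K₃) ∧
      ∀ K : Subgroup Γ, Pr S K → ∃ g : Γ, K.map (MulAut.conj g).toMonoidHom = K₁ ∨
        K.map (MulAut.conj g).toMonoidHom = K₂ ∨ K.map (MulAut.conj g).toMonoidHom = K₃

theorem Pr.congr_group {A : Type*} {B : Type*} [Group A] [Group B] (e : A ≃* B)
    (h : Nat.card ↥(Subgroup.center A) = 3 ∧ Nonempty (A ⧸ Subgroup.center A ≃* S)) :
    Nat.card ↥(Subgroup.center B) = 3 ∧ Nonempty (B ⧸ Subgroup.center B ≃* S) := by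
  have hmap : (Subgroup.center A).map e.toMonoidHom = Subgroup.center B := by
    ext b
    constructor
    · rintro ⟨a, ha, rfl⟩
      rw [Subgroup.mem_center_iff]
      intro b
      obtain ⟨a', rfl⟩ := e.surjective b
      show e a' * e a = e a * e a'
      rw [← map_mul, ← map_mul, Subgroup.mem_center_iff.1 ha a']
    · intro hb
      refine ⟨e.symm b, ?_, e.apply_symm_apply b⟩
      rw [SetLike.mem_coe, Subgroup.mem_center_iff]
      intro a
      apply e.injective
      rw [map_mul, map_mul, e.apply_symm_apply, Subgroup.mem_center_iff.1 hb]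
  obtain ⟨h1, ⟨f⟩⟩ := h
  refine ⟨?_, ⟨(QuotientGroup.congr _ _ e hmap).symm.trans f⟩⟩
  rw [← h1, ← hmap]
  exact (Nat.card_congr ((Subgroup.center A).equivMapOfInjective e.toMonoidHom e.injective).toEquiv).symm

theorem Pr.map {Γ : Type*} {Γ' : Type*} [Group Γ] [Group Γ'] (e : Γ ≃* Γ') {K : Subgroup Γ} (h : Pr S K) :
    Pr S (K.map e.toMonoidHom) :=
  Pr.congr_group (K.equivMapOfInjective e.toMonoidHom e.injective) h

theorem conj_map_equiv {Γ : Type*} {Γ' : Type*} [Group Γ] [Group Γ'] (e : Γ ≃* Γ') (g : Γ) (K : Subgroup Γ) :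
    (K.map (MulAut.conj g).toMonoidHom).map e.toMonoidHom =
      (K.map e.toMonoidHom).map (MulAut.conj (e g)).toMonoidHom := by
  rw [Subgroup.map_map, Subgroup.map_map]
  congr 1
  ext x
  show e (g * x * g⁻¹) = e g * e x * (e g)⁻¹
  rw [map_mul, map_mul, map_inv]

theorem Three.of_equiv {Γ : Type*} {Γ' : Type*} [Group Γ] [Group Γ'] (e : Γ ≃* Γ') (h : Three S Γ) :
    Three S Γ' := by
  obtain ⟨K₁, K₂, K₃, h1, h12, h13, h23, h2⟩ := h
  have hinj := Subgroup.map_injective (f := e.toMonoidHom) e.injective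
  have key : ∀ K K' : Subgroup Γ, (¬ ∃ g : Γ, K.map (MulAut.conj g).toMonoidHom = K') →
      ¬ ∃ g : Γ', (K.map e.toMonoidHom).map (MulAut.conj g).toMonoidHom = K'.map e.toMonoidHom := by
    rintro K K' hn ⟨g, hg⟩
    obtain ⟨g, rfl⟩ := e.surjective g
    rw [← conj_map_equiv] at hg
    exact hn ⟨g, hinj hg⟩
  refine ⟨K₁.map e.toMonoidHom, K₂.map e.toMonoidHom, K₃.map e.toMonoidHom, ?_, key _ _ h12,
    key _ _ h13, key _ _ h23, ?_⟩
  · intro K hK
    simp only [List.mem_cons, List.not_mem_nil, or_false] at hK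
    rcases hK with rfl | rfl | rfl
    · exact (h1 K₁ (by simp)).map e
    · exact (h1 K₂ (by simp)).map e
    · exact (h1 K₃ (by simp)).map e
  · intro K hK
    have hK' : Pr S (K.map e.symm.toMonoidHom) := hK.map e.symm
    have hKK : (K.map e.symm.toMonoidHom).map e.toMonoidHom = K := by
      rw [Subgroup.map_map]
      have : e.toMonoidHom.comp e.symm.toMonoidHom = MonoidHom.id _ := by
        ext x
        exact e.apply_symm_apply x
      rw [this, Subgroup.map_id]
    obtain ⟨g, hg⟩ := h2 _ hK'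
    refine ⟨e g, ?_⟩
    rw [← hKK, ← conj_map_equiv]
    rcases hg with hg | hg | hg
    · exact Or.inl (by rw [hg])
    · exact Or.inr (Or.inl (by rw [hg]))
    · exact Or.inr (Or.inr (by rw [hg]))

theorem Three.congr_S {S' : Type*} [Group S'] (e : S ≃* S') {Γ : Type*} [Group Γ] (h : Three S Γ) :
    Three S' Γ := by
  have key : ∀ K : Subgroup Γ, Pr S K ↔ Pr S' K := fun K =>
    ⟨fun ⟨h1, ⟨f⟩⟩ => ⟨h1, ⟨f.trans e⟩⟩, fun ⟨h1, ⟨f⟩⟩ => ⟨h1, ⟨f.trans e.symm⟩⟩⟩
  obtain ⟨K₁, K₂, K₃, h1, h12, h13, h23, h2⟩ := h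
  exact ⟨K₁, K₂, K₃, fun K hK => (key K).1 (h1 K hK), h12, h13, h23, fun K hK => h2 K ((key K).2 hK)⟩

end Cfsg.Agent.H832.UThree
end

-- part: H832/UThree/Exist
section
/-!
# `3.U4(3)` in `SU_6(2)`: existence, from the centralizer of a 2-central involution of `Fi24'` (helper832)
-/

set_option autoImplicit false

namespace Cfsg.Agent.H832.UThree

open Cfsg Cfsg.Agent.SporRec.GF4 Cfsg.Agent.R08.ModVec Cfsg.Agent.R08.ModMono Cfsg.Agent.R08.Frame
open Cfsg.Agent.R08.ModOrb Cfsg.Agent.R08.ModTau Cfsg.Agent.R08.ModFrame Cfsg.Agent.R08.FrameAGroup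
open Cfsg.Agent.Co2Type.Quad Cfsg.Agent.SporadicStructure.FieldNine
open Cfsg.Agent.R08.FrameA (card_psu perf_psu exists_frameData)

theorem ext_of_frame {G : Type*} [Group G] [Finite G] {z : G}
    {Q N M : Subgroup (Subgroup.centralizer ({z} : Set G))} [Q.Normal] [N.Normal] [M.Normal]
    (h : Large (Q.map (Subgroup.centralizer ({z} : Set G)).subtype) z)
    (hQN : Q ≤ N) (hNM : N ≤ M)
    (e : M ⧸ N.subgroupOf M ≃* Cfsg.PSU 4 K9 3) (fd : FrameData h N M F4) :
    ∃ π : ↥(grp fd) →* Cfsg.PSU 4 K9 3, _root_.Cfsg.Agent.R08.FrameAGroup.Ext π := by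
  classical
  have hmemQ : ∀ c : Subgroup.centralizer ({z} : Set G),
      (c : G) ∈ Q.map (Subgroup.centralizer ({z} : Set G)).subtype ↔ c ∈ Q := by
    intro c
    constructor
    · rintro ⟨d, hd, hdc⟩
      rwa [← (Subtype.ext hdc : d = c)]
    · intro hc
      exact ⟨c, hc, rfl⟩
  have hker : ∀ c : Subgroup.centralizer ({z} : Set G), h.act c = 1 ↔ c ∈ Q := fun c =>
    ⟨fun hc => (hmemQ c).1 (h.mem_of_act c hc), fun hc => h.act_mem c ((hmemQ c).2 hc)⟩
  have h1 : ∀ m : M, ∃ A : SL, ∀ v, fd.lab (h.act m v) = A • fd.lab v := by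
    intro m
    obtain ⟨A, -, hA⟩ := fd.lin m m.2
    exact ⟨A, hA⟩
  choose f hf using h1
  let φ : M →* grp fd :=
    { toFun := fun m => ⟨f m, m, m.2, hf m⟩
      map_one' := by
        apply Subtype.ext
        refine uniq fd (c := 1) (hf 1) fun v => ?_
        show fd.lab (h.act 1 v) = (1 : SL) • fd.lab v
        rw [map_one, one_smul]; rfl
      map_mul' := by
        intro m n
        apply Subtype.ext
        refine uniq fd (c := (m * n : M)) (hf (m * n)) fun v => ?_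
        show fd.lab (h.act ((m : Subgroup.centralizer ({z} : Set G)) * n) v) = (f m * f n) • fd.lab v
        rw [map_mul, mul_smul, ← hf n, ← hf m]
        rfl }
  have hφ : Function.Surjective φ := by
    rintro ⟨A, m, hm, hA⟩
    exact ⟨⟨m, hm⟩, Subtype.ext (uniq fd (hf ⟨m, hm⟩) hA)⟩
  have hφker : ∀ m : M, φ m = 1 → (m : Subgroup.centralizer ({z} : Set G)) ∈ Q := by
    intro m hm
    rw [← hker]
    ext v
    have h2 : f m = 1 := congrArg Subtype.val hm
    have h3 := hf m v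
    rw [h2, one_smul] at h3
    exact fd.lab.injective h3
  let p : M →* Cfsg.PSU 4 K9 3 := e.toMonoidHom.comp (QuotientGroup.mk' (N.subgroupOf M))
  have hp : Function.Surjective p := e.surjective.comp (QuotientGroup.mk'_surjective _)
  have hpker : ∀ m : M, p m = 1 ↔ (m : Subgroup.centralizer ({z} : Set G)) ∈ N := by
    intro m
    have h1 : p m = 1 ↔ (QuotientGroup.mk' (N.subgroupOf M)) m = 1 := map_eq_one_iff e e.injective
    rw [h1, QuotientGroup.mk'_apply, QuotientGroup.eq_one_iff, Subgroup.mem_subgroupOf]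
  let π : grp fd →* Cfsg.PSU 4 K9 3 := φ.liftOfSurjective hφ ⟨p, fun m hm =>
    (hpker m).2 (hQN (hφker m hm))⟩
  have hπ : ∀ m, π (φ m) = p m := fun m => MonoidHom.liftOfRightInverse_comp_apply _ _ _ _ m
  have hπs : Function.Surjective π := by
    intro s
    obtain ⟨m, rfl⟩ := hp s
    exact ⟨φ m, hπ m⟩
  refine ⟨π, hπs, ?_, perf_psu⟩
  have hQM : ∀ c : Subgroup.centralizer ({z} : Set G),
      (c : G) ∈ Q.map (Subgroup.centralizer ({z} : Set G)).subtype → c ∈ M := fun c hc =>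
    hNM (hQN ((hmemQ c).1 hc))
  have c1 := card_grp fd hQM
  have h2 := π.ker.card_mul_index
  rw [Subgroup.index_ker, MonoidHom.range_eq_top.2 hπs, Subgroup.card_top, card_psu, c1] at h2
  omega

theorem center_psu : Subgroup.center (Cfsg.PSU 4 K9 3) = ⊥ := by
  have hs : IsSimpleGroup (Cfsg.PSU 4 K9 3) := Cfsg.Agent.S0283.result (q := 3)
    K9.card_K9' 4 (by norm_num) (by norm_num)
  rcases hs.eq_bot_or_eq_top_of_normal (Subgroup.center (Cfsg.PSU 4 K9 3)) inferInstance with h0 | h0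
  · exact h0
  · exfalso
    have hcom : ∀ a b : Cfsg.PSU 4 K9 3, a * b = b * a := by
      intro a b
      have : b ∈ Subgroup.center (Cfsg.PSU 4 K9 3) := by rw [h0]; trivial
      exact Subgroup.mem_center_iff.1 this a
    let _ : CommGroup (Cfsg.PSU 4 K9 3) :=
      { (inferInstance : Group (Cfsg.PSU 4 K9 3)) with mul_comm := hcom }
    have hfin : Finite (Cfsg.PSU 4 K9 3) := Nat.finite_of_card_ne_zero (by rw [card_psu]; norm_num)
    have hp := IsSimpleGroup.prime_card (α := Cfsg.PSU 4 K9 3)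
    rw [card_psu] at hp
    norm_num at hp

open Cfsg.Agent.CTwoTab.FiTF Cfsg.Agent.OrdDiv Cfsg.Agent.CpAut Cfsg.Agent.H832.FourProd

theorem exists_H0 (T : OrderTable.{0}) (hA : AllKnown.{0}) :
    ∃ (H0 : Subgroup SL) (π : ↥H0 →* Cfsg.PSU 4 K9 3), Std H0 ∧ _root_.Cfsg.Agent.R08.FrameAGroup.Ext π := by
  have hfin : Finite Spor.Fi24 := Cfsg.Agent.R08.FiTwentyFour.finite_Fi24
  have hfin' : Finite Spor.Fi24' := inferInstance
  obtain ⟨Q, hQ, h1, h2, h3, N, M, hN, hM, h4, h5, h6, ⟨K, i1, i2, hK, ⟨f⟩⟩, h7⟩ := concl_z0 T hA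
  have hz : orderOf z0 = 2 := orderOf_eq_prime (by rw [pow_two]; exact large0.z_sq) large0.z_ne
  obtain ⟨h, ⟨fd⟩⟩ := exists_frameData z0 hz Q N M h1 h2 h3 h4 h5 h6 K hK f F4 rfl
  have hQM : ∀ c : Subgroup.centralizer ({z0} : Set Spor.Fi24'),
      (c : Spor.Fi24') ∈ Q.map (Subgroup.centralizer ({z0} : Set Spor.Fi24')).subtype → c ∈ M := by
    rintro c ⟨d, hd, hdc⟩
    have : d = c := Subtype.ext hdc
    rw [← this]
    exact h5 (h4 hd)
  obtain ⟨fd', hstd⟩ := Cfsg.Agent.R08.ModFrame.exists_std fd hQM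
  obtain ⟨ε⟩ := Cfsg.Agent.SporadicStructure.PsuMatch.psu_iso_of_card (F := K) (K := K9)
    (by rw [hK, K9.card_K9']; norm_num) 4 3
  obtain ⟨π, E⟩ := ext_of_frame h h4 h5 (f.trans ε) fd'
  exact ⟨grp fd', π, hstd, E⟩

/-- **The statement.** -/
theorem three (T : OrderTable.{0}) (hA : AllKnown.{0}) (F : Type) [Field F] [Fintype F]
    (hF : Fintype.card F = 4) (F9 : Type) [Field F9] [Fintype F9] (hF9 : Fintype.card F9 = 9) :
    Three (Cfsg.PSU 4 F9 3) ↥(Cfsg.SU 6 F 2) := by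
  obtain ⟨H0, π, h0, E⟩ := exists_H0 T hA
  have h1 : Three (Cfsg.PSU 4 K9 3) SUx :=
    main_SU Cfsg.Agent.R08.FrameAData.uData card_psu perf_psu center_psu h0 E
  obtain ⟨ε⟩ := Cfsg.Agent.SporadicStructure.PsuMatch.psu_iso_of_card (F := K9) (K := F9)
    (by rw [hF9, K9.card_K9']; norm_num) 4 3
  have e : F4 ≃+* F := FiniteField.ringEquivOfCardEq (by rw [hF]; rfl)
  exact (h1.congr_S ε).of_equiv (Cfsg.Agent.SporadicStructure.PsuMatch.suCongr e 6 2)

end Cfsg.Agent.H832.UThree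
end
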